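import Cfsg.Agent.TAB.Use.Defs
import Cfsg.Agent.Characters.DefectZero

/-!
# Decidable checks on a table (helper21, TAB)

* `Tab.van3` : three types covering the non-trivial characters by zeros;
* `fix_of_chk` : a character is fixed by a field automorphism;
* `Tab.oddRat`, `Tab.allRat`, `Tab.oddSig`.
-/

set_option autoImplicit false

namespace Cfsg.Agent.TAB.Use

open Cfsg Cfsg.Agent.TAB.Eng Cfsg.Agent.Characters Cfsg.Agent.ODD.Red

universe u

variable {G : Type u} [Group G] {D : Dat} {T : TD G D} {R : Rows} {χ : ℕ → G → ℂ}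

theorem Enum.charDegree_eq {n : ℕ} {d : ℕ → ℕ} (h : Enum G n d χ) {j : ℕ} (hj : j < n) :
    charDegree (χ j) = d j := by
  simp [charDegree, h.deg j hj]

/-! ### zeros -/

/-- a character of defect zero vanishes at the singular elements -/
theorem zero_of_dz [Finite G] {ψ : G → ℂ} (hψ : IsIrrCharacter G ψ) {d p e : ℕ} (hd : ψ 1 = d) (hp : p.Prime)
    (h1 : p ^ e ∣ Nat.card G) (h2 : ¬ p ^ (e + 1) ∣ Nat.card G) (h3 : p ^ e ∣ d) {x : G} (hx : p ∣ orderOf x) :
    ψ x = 0 := by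
  have := Fintype.ofFinite G
  obtain ⟨n, ρ, hρ, rfl⟩ := hψ
  have h4 : n = d := by
    have h5 : ρ.character 1 = n := by simp
    exact_mod_cast h5.symm.trans hd
  have h := DefectZero.character_inv_eq_zero ρ hρ p e hp h1 h2 (by simpa [h4] using h3) x⁻¹ (by rwa [orderOf_inv])
  rwa [inv_inv] at h

theorem Rel.row (h : Rel T R χ) {j : ℕ} {r : List (ℕ × ℤ) × List ℤ} (hr : r ∈ R.rel) (h1 : r.1 = [(j, 1)]) (g : G) :
    χ j g = ((r.2.getD (T.ty g) 0 : ℤ) : ℂ) := by
  have := h r hr g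
  rw [h1] at this
  simpa using this

/-- the character `j` vanishes on the type `t`; `P` : list of the `(p, e)`, `p ^ e` the `p`-part of the order -/
def zeroB (D : Dat) (R : Rows) (P : List (ℕ × ℕ)) (t j : ℕ) : Bool :=
  (P.any fun q => D.ord t % q.1 == 0 && R.d j % q.1 ^ q.2 == 0) ||
    R.rel.any fun r => r.1 == [(j, 1)] && r.2.getD t 0 == 0

/-- the list of prime powers is correct -/
def primesB (D : Dat) (P : List (ℕ × ℕ)) : Bool :=
  P.all fun q => D.N % q.1 ^ q.2 == 0 && D.N % q.1 ^ (q.2 + 1) != 0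

theorem zero_of_chk [Finite G] (hE : Enum G R.n R.d χ) (hR : Rel T R χ) (hN : Nat.card G = D.N)
    {P : List (ℕ × ℕ)} (hP : ∀ q ∈ P, q.1.Prime) (hP' : primesB D P = true) {j : ℕ} (hj : j < R.n) {g : G}
    (h : zeroB D R P (T.ty g) j = true) : χ j g = 0 := by
  rw [zeroB, Bool.or_eq_true] at h
  rcases h with h | h
  · obtain ⟨q, hq, h⟩ := List.any_eq_true.1 h
    have h1 := List.all_eq_true.1 hP' q hq
    simp only [Bool.and_eq_true, beq_iff_eq, bne_iff_ne, ne_eq] at h h1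
    refine zero_of_dz (hE.irr j hj) (hE.deg j hj) (hP q hq) (e := q.2) ?_ ?_ (Nat.dvd_of_mod_eq_zero h.2) ?_
    · rw [hN]; exact Nat.dvd_of_mod_eq_zero h1.1
    · rw [hN]; exact fun h2 => h1.2 (Nat.mod_eq_zero_of_dvd h2)
    · rw [T.ord]; exact Nat.dvd_of_mod_eq_zero h.1
  · obtain ⟨r, hr, h⟩ := List.any_eq_true.1 h
    simp only [Bool.and_eq_true, beq_iff_eq] at h
    rw [hR.row hr h.1, h.2, Int.cast_zero]

/-- the check for `Van3` -/
def vanB (D : Dat) (R : Rows) (P : List (ℕ × ℕ)) (t₁ t₂ t₃ : ℕ) : Bool :=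
  decide (t₁ < D.n) && decide (t₂ < D.n) && decide (t₃ < D.n) && primesB D P &&
    (List.range R.n).all fun j => j == 0 ||
      (R.d j != 1 && (zeroB D R P t₁ j || zeroB D R P t₂ j || zeroB D R P t₃ j))

/-- **three elements covering the non-trivial characters by zeros** -/
theorem Tab.van3 [Finite G] (h : Tab T R) (hI : Inh T) (hN : Nat.card G = D.N) (P : List (ℕ × ℕ))
    (hP : ∀ q ∈ P, q.1.Prime) (t₁ t₂ t₃ : ℕ) (hc : vanB D R P t₁ t₂ t₃ = true) : VAN.Van3 G := by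
  obtain ⟨χ, hE, hR⟩ := h
  simp only [vanB, Bool.and_eq_true, decide_eq_true_eq, List.all_eq_true, List.mem_range, Bool.or_eq_true,
    beq_iff_eq, bne_iff_ne, ne_eq] at hc
  obtain ⟨⟨⟨⟨h1, h2⟩, h3⟩, h4⟩, h5⟩ := hc
  obtain ⟨g₁, rfl⟩ := hI t₁ h1
  obtain ⟨g₂, rfl⟩ := hI t₂ h2
  obtain ⟨g₃, rfl⟩ := hI t₃ h3
  refine ⟨g₁, g₂, g₃, fun ψ hψ hne => ?_⟩
  obtain ⟨j, hj, rfl⟩ := hE.all ψ hψ
  rcases h5 j hj with rfl | ⟨-, (h6 | h6) | h6⟩
  · exfalso
    obtain ⟨i, hi, h7⟩ := hE.all _ (Core.isIrr_one (G := G))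
    rcases h5 i hi with rfl | ⟨h8, -⟩
    · exact hne h7.symm
    · have h9 := hE.deg i hi
      rw [← h7, Pi.one_apply] at h9
      apply h8
      exact_mod_cast h9.symm
  · exact Or.inl (zero_of_chk hE hR hN hP h4 hj h6)
  · exact Or.inr (Or.inl (zero_of_chk hE hR hN hP h4 hj h6))
  · exact Or.inr (Or.inr (zero_of_chk hE hR hN hP h4 hj h6))

/-! ### field automorphisms -/

/-- the coefficient of the character `i` -/
def coef (c : List (ℕ × ℤ)) (i : ℕ) : ℤ := (c.map fun p => if p.1 = i then p.2 else 0).sum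

theorem exists_of_coef {c : List (ℕ × ℤ)} {i : ℕ} (h : coef c i ≠ 0) : ∃ p ∈ c, p.1 = i := by
  by_contra hc
  push Not at hc
  apply h
  apply List.sum_eq_zero
  intro x hx
  obtain ⟨p, hp, rfl⟩ := List.mem_map.1 hx
  rw [if_neg (hc p hp)]

theorem inner_comb [Fintype G] {n : ℕ} {d : ℕ → ℕ} (hE : Enum G n d χ) {i : ℕ} (hi : i < n) :
    ∀ c : List (ℕ × ℤ), (∀ p ∈ c, p.1 < n) →
      classInner (fun g => (c.map fun p => (p.2 : ℂ) * χ p.1 g).sum) (χ i) = (coef c i : ℂ)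
  | [], _ => by
    have : (fun g : G => (([] : List (ℕ × ℤ)).map fun p => (p.2 : ℂ) * χ p.1 g).sum) = 0 := by
      funext g; simp
    rw [this, Core.classInner_zero_left]
    simp [coef]
  | p :: c, h => by
    have h1 : (fun g : G => ((p :: c).map fun p => (p.2 : ℂ) * χ p.1 g).sum) =
        (p.2 : ℂ) • χ p.1 + fun g => (c.map fun p => (p.2 : ℂ) * χ p.1 g).sum := by
      funext g; simp
    have hp := h p List.mem_cons_self
    rw [h1, Core.classInner_add_left, Core.classInner_smul_left,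
      inner_comb hE hi c fun q hq => h q (List.mem_cons_of_mem _ hq)]
    have h2 : coef (p :: c) i = (if p.1 = i then p.2 else 0) + coef c i := by simp [coef]
    rw [h2]
    by_cases h3 : p.1 = i
    · rw [if_pos h3, h3, Core.classInner_irr_self (hE.irr i hi)]
      push_cast; ring
    · rw [if_neg h3, Core.classInner_irr_ne (hE.irr _ hp) (hE.irr i hi) fun h4 => h3 (hE.inj _ hp _ hi h4)]
      push_cast; ring

/-- the conjugate of a character of the list -/
theorem Enum.exists_map [Finite G] {n : ℕ} {d : ℕ → ℕ} (hE : Enum G n d χ) (σ : ℂ ≃+* ℂ) {j : ℕ} (hj : j < n) :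
    ∃ a < n, (∀ g, σ (χ j g) = χ a g) ∧ d a = d j := by
  obtain ⟨a, ha, h⟩ := hE.all _ (GaloisIrr.isIrr_map σ (hE.irr j hj))
  refine ⟨a, ha, fun g => congrFun h g, ?_⟩
  have h1 := congrFun h 1
  simp only [hE.deg j hj, hE.deg a ha, map_natCast] at h1
  exact_mod_cast h1.symm

/-- field automorphisms preserve the coefficients of a relation -/
theorem coef_map [Finite G] (hE : Enum G R.n R.d χ) (hR : Rel T R χ) {r : List (ℕ × ℤ) × List ℤ} (hr : r ∈ R.rel)
    (hl : ∀ p ∈ r.1, p.1 < R.n) {σ : ℂ ≃+* ℂ} {j a : ℕ} (hj : j < R.n) (ha : a < R.n)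
    (h : ∀ g, σ (χ j g) = χ a g) : coef r.1 a = coef r.1 j := by
  have := Fintype.ofFinite G
  have h1 := inner_comb hE hj r.1 hl
  have h2 := inner_comb hE ha r.1 hl
  have h3 := GaloisIrr.classInner_map σ (χ := fun g => (r.1.map fun p => (p.2 : ℂ) * χ p.1 g).sum)
    (Core.isIrr_isCharacter (hE.irr j hj))
  have h4 : (fun g => σ ((r.1.map fun p => (p.2 : ℂ) * χ p.1 g).sum)) =
      fun g => (r.1.map fun p => (p.2 : ℂ) * χ p.1 g).sum := by
    funext g
    rw [hR r hr g, map_intCast]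
  have h5 : (fun g => σ (χ j g)) = χ a := funext h
  rw [h4, h5, h1, h2, map_intCast] at h3
  exact_mod_cast h3

/-- an element of type `t` at which `σ` fixes the values of the characters with a quadratic field -/
def Good (T : TD G D) (σ : ℂ ≃+* ℂ) (t : ℕ) : Prop :=
  ∃ g : G, T.ty g = t ∧ ∀ ψ : G → ℂ, IsIrrCharacter G ψ → (∀ (τ : ℂ ≃+* ℂ) (x : G), τ (τ (ψ x)) = ψ x) →
    σ (ψ g) = ψ g

theorem good_of_conj [Finite G] {σ : ℂ ≃+* ℂ} {g : G} {k : ℕ} (hc : IsConj g (g ^ k))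
    (hσ : ∀ z : ℂ, z ^ orderOf g = 1 → σ z = z ^ k) : Good T σ (T.ty g) := by
  refine ⟨g, rfl, fun ψ hψ _ => ?_⟩
  have h1 := GaloisBasic.map_apply (σ : ℂ →+* ℂ) hσ (Core.isIrr_isCharacter hψ) (orderOf_pos g).ne'
    (pow_orderOf_eq_one g)
  exact h1.trans ((GaloisIrr.isConj_iff_forall_irr.1 hc ψ hψ).symm)

theorem good_of_sq [Finite G] {σ : ℂ ≃+* ℂ} {g : G} {m : ℕ} (hm : m.Coprime (orderOf g))
    (hσ : ∀ z : ℂ, z ^ orderOf g = 1 → σ z = z ^ (m * m)) : Good T σ (T.ty g) := by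
  refine ⟨g, rfl, fun ψ hψ h => ?_⟩
  obtain ⟨τ, hτ⟩ := GaloisBasic.exists_ringEquiv_pow (orderOf_pos g).ne' hm
  have hc := Core.isIrr_isCharacter hψ
  have h1 := GaloisBasic.map_apply (σ : ℂ →+* ℂ) hσ hc (orderOf_pos g).ne' (pow_orderOf_eq_one g)
  have h2 := GaloisBasic.map_apply (τ : ℂ →+* ℂ) hτ hc (orderOf_pos g).ne' (pow_orderOf_eq_one g)
  have h3 := GaloisBasic.map_apply (τ : ℂ →+* ℂ) hτ hc (g := g ^ m) (orderOf_pos g).ne'
    (by rw [← pow_mul, mul_comm, pow_mul, pow_orderOf_eq_one, one_pow])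
  have h4 := h τ g
  change τ (ψ g) = _ at h2
  change τ (ψ (g ^ m)) = _ at h3
  change σ (ψ g) = _ at h1
  rw [h2, h3, ← pow_mul] at h4
  rw [h1, h4]

/-- the character `j` is determined by its coefficient and its degree in the relation -/
def uniqB (R : Rows) (j : ℕ) (r : List (ℕ × ℤ) × List ℤ) : Bool :=
  coef r.1 j != 0 && r.1.all fun q => decide (q.1 < R.n) &&
    (q.1 == j || coef r.1 q.1 != coef r.1 j || R.d q.1 != R.d j)

/-- the character `j` is one of a pair whose sum has an odd value on one of the types of `L` -/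
def pairB (R : Rows) (L : List ℕ) (j : ℕ) (r : List (ℕ × ℤ) × List ℤ) : Bool :=
  (r.1.any fun q => decide (q.1 < R.n) && q.1 != j && (r.1 == [(j, 1), (q.1, 1)] || r.1 == [(q.1, 1), (j, 1)])) &&
    L.any fun t => r.2.getD t 0 % 2 != 0

/-- the check that the character `j` is fixed -/
def fixB (R : Rows) (L : List ℕ) (j : ℕ) : Bool :=
  (R.rel.any fun r => uniqB R j r || pairB R L j r) || (List.range R.n).all fun i => i == j || R.d i != R.d j

theorem even_of_integral {w : ℤ} {x : ℂ} (hx : IsIntegral ℤ x) (h : x + x = w) : w % 2 = 0 := by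
  have h1 : x = algebraMap ℚ ℂ ((w : ℚ) / 2) := by
    simp only [map_div₀, map_intCast, map_ofNat]
    linear_combination h / 2
  rw [h1, isIntegral_algebraMap_iff (algebraMap ℚ ℂ).injective] at hx
  obtain ⟨y, hy⟩ := IsIntegrallyClosed.isIntegral_iff.1 hx
  have h2 : (w : ℚ) = 2 * y := by
    simp only [eq_intCast] at hy
    linear_combination (-2) * hy
  have h3 : w = 2 * y := by exact_mod_cast h2
  omega

theorem pair_fix [Finite G] (hE : Enum G R.n R.d χ) (hR : Rel T R χ) {r : List (ℕ × ℤ) × List ℤ} (hr : r ∈ R.rel)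
    {j k : ℕ} (hj : j < R.n) (hk : k < R.n) (hne : k ≠ j)
    (h : r.1 = [(j, 1), (k, 1)] ∨ r.1 = [(k, 1), (j, 1)]) {σ : ℂ ≃+* ℂ} {t : ℕ} (hG : Good T σ t)
    (ht : r.2.getD t 0 % 2 ≠ 0) : Fix σ (χ j) := by
  have hl : ∀ p ∈ r.1, p.1 = j ∨ p.1 = k := by
    rcases h with h | h <;> rw [h] <;> simp
  have hl' : ∀ p ∈ r.1, p.1 < R.n := fun p hp => by rcases hl p hp with h1 | h1 <;> rw [h1] <;> assumption
  have hcj : coef r.1 j = 1 := by rcases h with h | h <;> rw [h] <;> simp [coef, hne]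
  have hck : coef r.1 k = 1 := by rcases h with h | h <;> rw [h] <;> simp [coef, hne.symm]
  have key : ∀ (τ : ℂ ≃+* ℂ) (i : ℕ), i < R.n → coef r.1 i = 1 →
      (∀ g, τ (χ i g) = χ j g) ∨ ∀ g, τ (χ i g) = χ k g := fun τ i hi hc => by
    obtain ⟨a, ha, h1, -⟩ := hE.exists_map τ hi
    have h2 := coef_map hE hR hr hl' hi ha h1
    obtain ⟨p, hp, h3⟩ := exists_of_coef (c := r.1) (i := a) (by rw [h2, hc]; exact one_ne_zero)
    rcases hl p hp with h4 | h4
    · left; rw [← h4, h3]; exact h1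
    · right; rw [← h4, h3]; exact h1
  have hsq : ∀ (τ : ℂ ≃+* ℂ) (x : G), τ (τ (χ j x)) = χ j x := fun τ x => by
    rcases key τ j hj hcj with h1 | h1
    · rw [h1, h1]
    · rcases key τ k hk hck with h2 | h2
      · rw [h1, h2]
      · exact absurd (hE.inj k hk j hj (funext fun g => τ.injective ((h2 g).trans (h1 g).symm))) hne
  obtain ⟨g, rfl, hg⟩ := hG
  rcases key σ j hj hcj with h1 | h1
  · exact h1
  · exfalso
    have h2 := hg _ (hE.irr j hj) hsq
    have h3 := hR r hr g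
    have h4 : χ j g + χ j g = ((r.2.getD (T.ty g) 0 : ℤ) : ℂ) := by
      rw [← h3]
      rcases h with h | h <;> rw [h] <;> simp [← h1 g, h2]
    exact ht (even_of_integral (GaloisBasic.isIntegral_apply (Core.isIrr_isCharacter (hE.irr j hj)) g) h4)

/-- **a character fixed by a field automorphism** -/
theorem fix_of_chk [Finite G] (hE : Enum G R.n R.d χ) (hR : Rel T R χ) {σ : ℂ ≃+* ℂ} {L : List ℕ}
    (hL : ∀ t ∈ L, Good T σ t) {j : ℕ} (hj : j < R.n) (h : fixB R L j = true) : Fix σ (χ j) := by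
  rw [fixB, Bool.or_eq_true] at h
  obtain ⟨a, ha, h1, h2⟩ := hE.exists_map σ hj
  rcases h with h | h
  · obtain ⟨r, hr, h⟩ := List.any_eq_true.1 h
    rw [Bool.or_eq_true] at h
    rcases h with h | h
    · simp only [uniqB, Bool.and_eq_true, bne_iff_ne, ne_eq, List.all_eq_true, decide_eq_true_eq, Bool.or_eq_true,
        beq_iff_eq] at h
      have h3 := coef_map hE hR hr (fun p hp => (h.2 p hp).1) hj ha h1
      obtain ⟨p, hp, h4⟩ := exists_of_coef (c := r.1) (i := a) (by rw [h3]; exact h.1)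
      have h5 := (h.2 p hp).2
      rw [h4] at h5
      rcases h5 with (h5 | h5) | h5
      · rw [h5] at h1; exact h1
      · exact absurd h3 h5
      · exact absurd h2 h5
    · simp only [pairB, Bool.and_eq_true, List.any_eq_true, decide_eq_true_eq, bne_iff_ne, ne_eq, Bool.or_eq_true,
        beq_iff_eq] at h
      obtain ⟨⟨q, -, ⟨h3, h4⟩, h5⟩, t, ht, h6⟩ := h
      exact pair_fix hE hR hr hj h3 h4 h5 (hL t ht) h6
  · have h3 := List.all_eq_true.1 h a (List.mem_range.2 ha)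
    simp only [Bool.or_eq_true, beq_iff_eq, bne_iff_ne, ne_eq] at h3
    rcases h3 with h3 | h3
    · rw [h3] at h1; exact h1
    · exact absurd h2 h3

/-- types of odd order -/
def oddL (D : Dat) (L : List ℕ) : Bool := L.all fun t => decide (t < D.n) && D.ord t % 2 == 1

theorem good_two [Finite G] (hI : Inh T) {L : List ℕ} (hL : oddL D L = true) {τ : ℂ ≃+* ℂ} (hτ : Two τ) :
    ∀ t ∈ L, Good T τ t := by
  intro t ht
  have h := List.all_eq_true.1 hL t ht
  simp only [Bool.and_eq_true, decide_eq_true_eq, beq_iff_eq] at h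
  obtain ⟨g, rfl⟩ := hI t h.1
  refine good_of_conj (k := 1) (by rw [pow_one]) fun z hz => ?_
  rw [pow_one]
  exact hτ _ z (by rw [T.ord]; exact Nat.odd_iff.2 h.2) hz

/-- **the characters of odd degree are `2`-rational** -/
theorem Tab.oddRat [Finite G] (h : Tab T R) (hI : Inh T) (L : List ℕ) (hL : oddL D L = true)
    (hc : ((List.range R.n).all fun j => R.d j % 2 == 0 || fixB R L j) = true) : OddRat G := by
  obtain ⟨χ, hE, hR⟩ := h
  intro ψ hψ ho τ hτ
  obtain ⟨j, hj, rfl⟩ := hE.all ψ hψ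
  have h1 := List.all_eq_true.1 hc j (List.mem_range.2 hj)
  rw [hE.charDegree_eq hj, Nat.odd_iff] at ho
  simp only [ho, Bool.or_eq_true, beq_iff_eq, one_ne_zero, false_or] at h1
  exact fix_of_chk hE hR (good_two hI hL hτ) hj h1

/-- **all characters are `2`-rational** -/
theorem Tab.allRat [Finite G] (h : Tab T R) (hI : Inh T) (L : List ℕ) (hL : oddL D L = true)
    (hc : ((List.range R.n).all fun j => fixB R L j) = true) : AllRat G := by
  obtain ⟨χ, hE, hR⟩ := h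
  intro ψ hψ τ hτ
  obtain ⟨j, hj, rfl⟩ := hE.all ψ hψ
  exact fix_of_chk hE hR (good_two hI hL hτ) hj (List.all_eq_true.1 hc j (List.mem_range.2 hj))

/-- the exponent of `Sig` on the roots of unity of order dividing `2 ^ a * b` -/
theorem Sig.pow {σ : ℂ ≃+* ℂ} (h : Sig σ) {a b k : ℕ} (hb : Odd b) (h1 : k ≡ 1 [MOD 2 ^ a]) (h2 : k ≡ 2 [MOD b])
    {z : ℂ} (hz : z ^ (2 ^ a * b) = 1) : σ z = z ^ k := by
  have hc : Nat.Coprime (2 ^ a) b := (Nat.coprime_two_left.2 hb).pow_left a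
  obtain ⟨e, he1, he2⟩ := Nat.chineseRemainder hc 1 0
  obtain ⟨f, hf1, hf2⟩ := Nat.chineseRemainder hc 0 1
  have h3 : e + f ≡ 1 [MOD 2 ^ a * b] :=
    (Nat.modEq_and_modEq_iff_modEq_mul hc).1 ⟨he1.add hf1, he2.add hf2⟩
  have h4 : e + f * 2 ≡ k [MOD 2 ^ a * b] :=
    (Nat.modEq_and_modEq_iff_modEq_mul hc).1 ⟨(he1.add (hf1.mul_right 2)).trans (by simpa using h1.symm),
      (he2.add (hf2.mul_right 2)).trans (by simpa using h2.symm)⟩
  have h5 : (z ^ e) ^ 2 ^ a = 1 := by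
    obtain ⟨c, hc'⟩ := (Nat.modEq_zero_iff_dvd.1 he2)
    rw [← pow_mul, hc', show b * c * 2 ^ a = 2 ^ a * b * c by ring, pow_mul, hz, one_pow]
  have h6 : (z ^ f) ^ b = 1 := by
    obtain ⟨c, hc'⟩ := (Nat.modEq_zero_iff_dvd.1 hf1)
    rw [← pow_mul, hc', show 2 ^ a * c * b = 2 ^ a * b * c by ring, pow_mul, hz, one_pow]
  have h7 : z = z ^ e * z ^ f := by rw [← pow_add, pow_eq_pow_of_modEq h3 hz, pow_one]
  conv_lhs => rw [h7]
  rw [map_mul, h.1 a _ h5, h.2 b _ hb h6, ← pow_mul, ← pow_add, pow_eq_pow_of_modEq h4 hz]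

/-- `(t, a, b, k)` : the order of the type is `2 ^ a * b` and `k` is the exponent of `Sig` -/
def expB (D : Dat) (t a b k : ℕ) : Bool :=
  decide (t < D.n) && D.ord t == 2 ^ a * b && b % 2 == 1 && k % 2 ^ a == 1 % 2 ^ a && k % b == 2 % b

theorem Sig.pow_of_chk {σ : ℂ ≃+* ℂ} (h : Sig σ) {g : G} {a b k : ℕ} (hc : expB D (T.ty g) a b k = true) (z : ℂ)
    (hz : z ^ orderOf g = 1) : σ z = z ^ k := by
  simp only [expB, Bool.and_eq_true, decide_eq_true_eq, beq_iff_eq] at hc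
  obtain ⟨⟨⟨⟨-, h1⟩, h2⟩, h3⟩, h4⟩ := hc
  rw [T.ord, h1] at hz
  exact h.pow (Nat.odd_iff.2 h2) h3 h4 hz

/-- `(t, a, b, m)` : the exponent of `Sig` on the type `t` is the square of the unit `m` -/
def sqL (D : Dat) (L : List (ℕ × ℕ × ℕ × ℕ)) : Bool :=
  L.all fun x => expB D x.1 x.2.1 x.2.2.1 (x.2.2.2 * x.2.2.2) && Nat.gcd x.2.2.2 (D.ord x.1) == 1

theorem good_sig [Finite G] (hI : Inh T) {L : List (ℕ × ℕ × ℕ × ℕ)} (hL : sqL D L = true) {σ : ℂ ≃+* ℂ}
    (hσ : Sig σ) : ∀ x ∈ L, Good T σ x.1 := by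
  intro x hx
  have h := List.all_eq_true.1 hL x hx
  rw [Bool.and_eq_true, beq_iff_eq] at h
  have h1 : x.1 < D.n := by
    have := h.1
    simp only [expB, Bool.and_eq_true, decide_eq_true_eq] at this
    exact this.1.1.1.1
  obtain ⟨g, hg⟩ := hI x.1 h1
  rw [← hg] at h ⊢
  exact good_of_sq (by rw [T.ord]; exact h.2) (hσ.pow_of_chk h.1)

/-- a type with an element conjugate to its image under `Sig` -/
def SigConj (T : TD G D) (t : ℕ) : Prop :=
  ∃ (g : G) (a b k : ℕ), T.ty g = t ∧ expB D t a b k = true ∧ IsConj g (g ^ k)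

theorem SigConj.good [Finite G] {t : ℕ} (h : SigConj T t) {σ : ℂ ≃+* ℂ} (hσ : Sig σ) : Good T σ t := by
  obtain ⟨g, a, b, k, rfl, h1, h2⟩ := h
  exact good_of_conj h2 (hσ.pow_of_chk h1)

/-- **the characters of odd degree are fixed by `Sig`** -/
theorem Tab.oddSig [Finite G] (h : Tab T R) (hI : Inh T) (L : List (ℕ × ℕ × ℕ × ℕ)) (hL : sqL D L = true)
    (L' : List ℕ) (hL' : ∀ t ∈ L', SigConj T t)
    (hc : ((List.range R.n).all fun j => R.d j % 2 == 0 || fixB R (L.map Prod.fst ++ L') j) = true) :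
    OddSig G := by
  obtain ⟨χ, hE, hR⟩ := h
  intro ψ hψ ho σ hσ
  obtain ⟨j, hj, rfl⟩ := hE.all ψ hψ
  have h1 := List.all_eq_true.1 hc j (List.mem_range.2 hj)
  rw [hE.charDegree_eq hj, Nat.odd_iff] at ho
  simp only [ho, Bool.or_eq_true, beq_iff_eq, one_ne_zero, false_or] at h1
  refine fix_of_chk hE hR (fun t ht => ?_) hj h1
  rcases List.mem_append.1 ht with ht | ht
  · obtain ⟨x, hx, rfl⟩ := List.mem_map.1 ht
    exact good_sig hI hL hσ x hx
  · exact (hL' t ht).good hσ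

end Cfsg.Agent.TAB.Use
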